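import Mathlib
import Cfsg.Agent.ClassesPi.Basic
import Cfsg.Agent.Hall.Schmidt

/-!
Counting classes of `π`-elements: parts, splittings and images.
-/

set_option autoImplicit false

namespace CfsgLib.PiClasses

open CfsgLib.ClassesPi
open scoped Pointwise

/-- The `S`-part of the order. -/
noncomputable def part (S : Finset ℕ) (G : Type*) [Group G] : ℕ :=
  ∏ q ∈ S, q ^ (Nat.card G).factorization q

variable {G : Type*} [Group G] {S : Finset ℕ}

theorem part_pos (hS : ∀ q ∈ S, q.Prime) : 0 < part S G :=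
  Finset.prod_pos fun q hq => pow_pos (hS q hq).pos _

theorem part_insert {a : ℕ} (ha : a ∉ S) :
    part (insert a S) G = a ^ (Nat.card G).factorization a * part S G :=
  Finset.prod_insert ha

theorem part_dvd_card [Finite G] (hS : ∀ q ∈ S, q.Prime) : part S G ∣ Nat.card G := by
  unfold part
  induction S using Finset.induction_on with
  | empty => simp
  | @insert a s has ih =>
    rw [Finset.prod_insert has]
    refine Nat.Coprime.mul_dvd_of_dvd_of_dvd ?_ (Nat.ordProj_dvd _ a) (ih fun q hq => hS q (Finset.mem_insert_of_mem hq))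
    exact Nat.Coprime.prod_right fun q hq => Nat.Coprime.pow _ _
      ((Nat.coprime_primes (hS a (Finset.mem_insert_self a s)) (hS q (Finset.mem_insert_of_mem hq))).mpr
        fun e => has (e ▸ hq))

theorem prime_dvd_part (hS : ∀ q ∈ S, q.Prime) {q : ℕ} (hq : q.Prime) (h : q ∣ part S G) : q ∈ S := by
  obtain ⟨s, hs, hqs⟩ := (hq.prime.dvd_finsetProd_iff _).mp h
  rwa [(Nat.prime_dvd_prime_iff_eq hq (hS s hs)).mp (hq.dvd_of_dvd_pow hqs)]

theorem dvd_part [Finite G] {q : ℕ} (hqS : q ∈ S) (hq : q.Prime) (h : q ∣ Nat.card G) : q ∣ part S G :=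
  (dvd_pow_self q (hq.factorization_pos_of_dvd Nat.card_pos.ne' h).ne').trans
    (Finset.dvd_prod_of_mem (fun r => r ^ (Nat.card G).factorization r) hqS)

theorem part_subgroup_dvd [Finite G] (H : Subgroup G) : part S H ∣ part S G :=
  Finset.prod_dvd_prod_of_dvd _ _ fun q _ => pow_dvd_pow q
    ((Nat.factorization_le_iff_dvd Nat.card_pos.ne' Nat.card_pos.ne').2 (Subgroup.card_subgroup_dvd_card H) q)

/-- A subgroup has full `S`-part or loses a factor at least `p`. -/
theorem part_eq_or [Finite G] {p : ℕ} (hS : ∀ q ∈ S, q.Prime ∧ p ≤ q) (H : Subgroup G) :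
    part S H = part S G ∨ p * part S H ≤ part S G := by
  obtain ⟨t, ht⟩ := part_subgroup_dvd (S := S) H
  rcases eq_or_ne t 1 with rfl | ht1
  · left; rw [ht, mul_one]
  · right
    obtain ⟨q, hq, hqt⟩ := Nat.exists_prime_and_dvd ht1
    have hmem := prime_dvd_part (G := G) (fun q hq => (hS q hq).1) hq (ht ▸ dvd_mul_of_dvd_right hqt _)
    have ht0 : 0 < t := by
      rcases Nat.eq_zero_or_pos t with rfl | h
      · have := part_pos (G := G) fun q hq => (hS q hq).1
        rw [ht, mul_zero] at this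
        omega
      · exact h
    rw [ht, mul_comm p]
    exact Nat.mul_le_mul_left _ ((hS q hmem).2.trans (Nat.le_of_dvd ht0 hqt))

theorem coprime_index [Finite G] (hS : ∀ q ∈ S, q.Prime) {H : Subgroup G} (hH : Nat.card H = part S G) :
    (Nat.card H).Coprime H.index := by
  refine Nat.coprime_of_dvd fun q hq h1 h2 => ?_
  have hqS := prime_dvd_part hS hq (hH ▸ h1)
  have hdiv : q ^ (Nat.card G).factorization q ∣ Nat.card H :=
    hH ▸ Finset.dvd_prod_of_mem (fun r => r ^ (Nat.card G).factorization r) hqS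
  have := Nat.mul_dvd_mul hdiv h2
  rw [← pow_succ, H.card_mul_index] at this
  exact Nat.pow_succ_factorization_not_dvd Nat.card_pos.ne' hq this

theorem isPiElt_of_mem [Finite G] (hS : ∀ q ∈ S, q.Prime) {H : Subgroup G} (hH : Nat.card H = part S G)
    {x : G} (hx : x ∈ H) : IsPiElt (S : Set ℕ) x :=
  fun _ hr hd => prime_dvd_part hS hr (hH ▸ hd.trans (H.orderOf_dvd_natCard hx))

theorem hall_conj [Finite G] (hS : ∀ q ∈ S, q.Prime) {H : Subgroup G} (hn : Group.IsNilpotent H)
    (hH : Nat.card H = part S G) {K : Subgroup G} (hK : ∀ q : ℕ, q.Prime → q ∣ Nat.card K → q ∈ S) :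
    ∃ g : G, ∀ x ∈ K, g * x * g⁻¹ ∈ H := by
  obtain ⟨g, hg⟩ := Hall.wielandt_nilpotent_hall H K hn (coprime_index hS hH) fun q hq hd =>
    hH ▸ dvd_part (hK q hq hd) hq (hd.trans (Subgroup.card_subgroup_dvd_card K))
  refine ⟨g⁻¹, fun x hx => ?_⟩
  have := Subgroup.mem_pointwise_smul_iff_inv_smul_mem.mp (hg hx)
  rwa [← map_inv, MulAut.smul_def, MulAut.conj_apply] at this

theorem conj_into_hall [Finite G] (hS : ∀ q ∈ S, q.Prime) {H : Subgroup G} (hn : Group.IsNilpotent H)
    (hH : Nat.card H = part S G) {x : G} (hx : IsPiElt (S : Set ℕ) x) : ∃ g : G, g * x * g⁻¹ ∈ H := by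
  obtain ⟨g, hg⟩ := hall_conj hS hn hH (K := Subgroup.zpowers x) fun q hq hd =>
    hx q hq (Nat.card_zpowers x ▸ hd)
  exact ⟨g, hg x (Subgroup.mem_zpowers x)⟩

theorem kPi_le_part [Finite G] (hS : ∀ q ∈ S, q.Prime) : kPi (S : Set ℕ) G ≤ part S G :=
  kPi_le_prod S hS G

/-- If all `π`-elements are conjugate into a set, its image bounds the number of classes. -/
theorem kPi_le_ncard_image [Finite G] {π : Set ℕ} {U : Set G}
    (h : ∀ x : G, IsPiElt π x → ∃ g : G, g * x * g⁻¹ ∈ U) :
    kPi π G ≤ (ConjClasses.mk '' U).ncard := by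
  refine Nat.card_le_card_of_injective
    (fun c : {c : ConjClasses G // ∃ x, ConjClasses.mk x = c ∧ IsPiElt π x} =>
      (⟨c.1, by
        obtain ⟨c, x, rfl, hx⟩ := c
        obtain ⟨g, hg⟩ := h x hx
        exact ⟨_, hg, ConjClasses.mk_eq_mk_iff_isConj.mpr (isConj_iff.mpr ⟨g, rfl⟩).symm⟩⟩ :
        ↥(ConjClasses.mk '' U))) fun a b hab => Subtype.ext (congrArg (fun z => z.1) hab)

/-- Images with large fibres away from a subset are small. -/
theorem mul_ncard_image_le {α β : Type*} [Finite α] (f : α → β) (U U₀ : Set α) (hU₀ : U₀ ⊆ U) {q : ℕ}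
    (hfib : ∀ x ∈ U, x ∉ U₀ → q ≤ {y | y ∈ U ∧ f y = f x}.ncard) :
    q * (f '' U).ncard ≤ U.ncard + (q - 1) * U₀.ncard := by
  classical
  haveI := Fintype.ofFinite α
  set A : Finset α := U.toFinite.toFinset with hA
  set B : Finset α := U₀.toFinite.toFinset with hB
  have hBA : B ⊆ A := by
    intro x hx
    simp only [A, B, Set.Finite.mem_toFinset] at hx ⊢
    exact hU₀ hx
  rw [show (f '' U).ncard = (A.image f).card by
      rw [← Set.ncard_coe_finset, Finset.coe_image, hA, Set.Finite.coe_toFinset],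
    Set.ncard_eq_toFinset_card U, Set.ncard_eq_toFinset_card U₀, ← hA, ← hB,
    Finset.card_eq_sum_card_image f A,
    Finset.card_eq_sum_card_fiberwise (f := f) (s := B) (t := A.image f)
      (fun x hx => Finset.mem_coe.mpr (Finset.mem_image_of_mem f (hBA hx))),
    Finset.mul_sum, ← Finset.sum_add_distrib]
  rw [Finset.card_eq_sum_ones, Finset.mul_sum]
  refine Finset.sum_le_sum fun y hy => ?_
  rw [mul_one]
  obtain ⟨x, hx, rfl⟩ := Finset.mem_image.mp hy
  have hpos : 1 ≤ (A.filter fun z => f z = f x).card :=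
    Finset.card_pos.mpr ⟨x, Finset.mem_filter.mpr ⟨hx, rfl⟩⟩
  rcases (B.filter fun z => f z = f x).eq_empty_or_nonempty with h0 | hne
  · have hxU : x ∈ U := by simpa [A] using hx
    have hxU₀ : x ∉ U₀ := fun h => by
      have : x ∈ B.filter fun z => f z = f x := Finset.mem_filter.mpr ⟨by simpa [B] using h, rfl⟩
      rw [h0] at this
      exact Finset.notMem_empty x this
    refine le_add_right ?_
    refine (hfib x hxU hxU₀).trans (le_of_eq ?_)
    rw [← Set.ncard_coe_finset]
    congr 1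
    ext z
    simp [A]
  · have h1 := Finset.card_pos.mpr hne
    have h2 : q - 1 ≤ (q - 1) * (B.filter fun z => f z = f x).card := Nat.le_mul_of_pos_right _ h1
    omega

/-- Splitting the classes of `π`-elements by the class of their `A`-part. -/
theorem kPi_split [Finite G] {π A B : Set ℕ}
    (hsplit : ∀ g : G, IsPiElt π g → ∃ u v, g = u * v ∧ Commute u v ∧ IsPiElt A u ∧ IsPiElt B v)
    (good : ConjClasses G → Prop) (K W : ℕ)
    (hK : ∀ u : G, IsPiElt A u → good (ConjClasses.mk u) → kPi B ↥(Subgroup.centralizer ({u} : Set G)) ≤ K)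
    (hW : ∀ u : G, IsPiElt A u → ¬ good (ConjClasses.mk u) → kPi B ↥(Subgroup.centralizer ({u} : Set G)) ≤ W) :
    ∃ n b, n ≤ {c | good c}.ncard ∧ n + b = kPi A G ∧ kPi π G ≤ n * K + b * W := by
  classical
  let R := {c : ConjClasses G // ∃ x, ConjClasses.mk x = c ∧ IsPiElt A x}
  let rep : R → G := fun a => a.2.choose
  have hrep : ∀ a : R, ConjClasses.mk (rep a) = a.1 ∧ IsPiElt A (rep a) := fun a => a.2.choose_spec
  let T : R → Type _ := fun a => {d : ConjClasses ↥(Subgroup.centralizer ({rep a} : Set G)) //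
    ∃ x, ConjClasses.mk x = d ∧ IsPiElt B x}
  have key : ∀ c : {c : ConjClasses G // ∃ x, ConjClasses.mk x = c ∧ IsPiElt π x},
      ∃ s : (Σ a : R, T a), ∀ v : ↥(Subgroup.centralizer ({rep s.1} : Set G)),
        ConjClasses.mk v = s.2.1 → ConjClasses.mk (rep s.1 * (v : G)) = c.1 := by
    rintro ⟨c, g, rfl, hg⟩
    obtain ⟨u, v, hguv, huv, hu, hv⟩ := hsplit g hg
    let a : R := ⟨ConjClasses.mk u, u, rfl, hu⟩
    obtain ⟨h, hh⟩ := isConj_iff.1 (ConjClasses.mk_eq_mk_iff_isConj.1 (hrep a).1).symm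
    have hmem : h * v * h⁻¹ ∈ Subgroup.centralizer ({rep a} : Set G) := by
      rw [Subgroup.mem_centralizer_singleton_iff, ← hh]
      calc (h * v * h⁻¹) * (h * u * h⁻¹) = h * (v * u) * h⁻¹ := by group
        _ = h * (u * v) * h⁻¹ := by rw [huv.eq]
        _ = _ := by group
    have hpi : IsPiElt B (⟨_, hmem⟩ : ↥(Subgroup.centralizer ({rep a} : Set G))) := by
      intro q hq hd
      rw [← Subgroup.orderOf_coe] at hd
      exact isPiElt_conj (isConj_iff.2 ⟨h, rfl⟩) hv q hq hd
    refine ⟨⟨a, ConjClasses.mk ⟨_, hmem⟩, _, rfl, hpi⟩, fun w hw => ?_⟩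
    obtain ⟨d, hd⟩ := isConj_iff.1 (ConjClasses.mk_eq_mk_iff_isConj.1 hw)
    have hd' : (d : G) * w * (d : G)⁻¹ = h * v * h⁻¹ := congrArg Subtype.val hd
    have hdc : (d : G) * rep a = rep a * d := Subgroup.mem_centralizer_singleton_iff.1 d.2
    rw [ConjClasses.mk_eq_mk_iff_isConj, isConj_iff]
    refine ⟨h⁻¹ * d, ?_⟩
    calc h⁻¹ * d * (rep a * w) * (h⁻¹ * d)⁻¹
        = h⁻¹ * ((d : G) * rep a) * w * (d : G)⁻¹ * h := by group
      _ = h⁻¹ * rep a * ((d : G) * w * (d : G)⁻¹) * h := by rw [hdc]; group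
      _ = h⁻¹ * (h * u * h⁻¹) * (h * v * h⁻¹) * h := by rw [hd', hh]
      _ = g := by rw [hguv]; group
  choose f hf using key
  haveI : Fintype R := Fintype.ofFinite R
  have hle : kPi π G ≤ ∑ a : R, Nat.card (T a) := by
    rw [← Nat.card_sigma]
    refine Nat.card_le_card_of_injective f fun a b hab => ?_
    obtain ⟨w, hw⟩ := ConjClasses.mk_surjective (f a).2.1
    have h2 := hf b
    rw [← hab] at h2
    exact Subtype.ext ((hf a w hw).symm.trans (h2 w hw))
  set P : Finset R := Finset.univ.filter fun a => good a.1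
  set Q : Finset R := Finset.univ.filter fun a => ¬ good a.1
  refine ⟨P.card, Q.card, ?_, ?_, hle.trans ?_⟩
  · rw [← Finset.card_map ⟨fun a : R => a.1, Subtype.val_injective⟩, ← Set.ncard_coe_finset]
    refine Set.ncard_le_ncard ?_ (Set.toFinite _)
    intro c hc
    obtain ⟨a, ha, rfl⟩ := Finset.mem_map.mp (Finset.mem_coe.mp hc)
    exact (Finset.mem_filter.mp ha).2
  · rw [Finset.card_filter_add_card_filter_not, Finset.card_univ, ← Nat.card_eq_fintype_card]
    rfl
  · rw [← Finset.sum_filter_add_sum_filter_not Finset.univ fun a : R => good a.1]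
    refine Nat.add_le_add ?_ ?_
    · rw [← smul_eq_mul, ← Finset.sum_const]
      refine Finset.sum_le_sum fun a ha => hK _ (hrep a).2 ?_
      rw [(hrep a).1]
      exact (Finset.mem_filter.mp ha).2
    · rw [← smul_eq_mul, ← Finset.sum_const]
      refine Finset.sum_le_sum fun a ha => hW _ (hrep a).2 ?_
      rw [(hrep a).1]
      exact (Finset.mem_filter.mp ha).2

theorem split_left [Finite G] {r : ℕ} (hr : r.Prime) (g : G) (hg : IsPiElt (insert r S : Finset ℕ) g) :
    ∃ u v, g = u * v ∧ Commute u v ∧ IsPiElt ({r} : Set ℕ) u ∧ IsPiElt (S : Set ℕ) v := by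
  obtain ⟨u, v, h1, h2, hu, hv1, hv2⟩ := exists_split hr g
  refine ⟨u, v, h1, h2, (isPiElt_singleton_iff hr u).2 hu, fun q hq hd => ?_⟩
  have := hg q hq (hd.trans hv1)
  rw [Finset.coe_insert] at this
  rcases this with rfl | h
  · exact absurd hd hv2
  · exact h

theorem split_right [Finite G] {r : ℕ} (hr : r.Prime) (g : G) (hg : IsPiElt (insert r S : Finset ℕ) g) :
    ∃ u v, g = u * v ∧ Commute u v ∧ IsPiElt (S : Set ℕ) u ∧ IsPiElt ({r} : Set ℕ) v := by
  obtain ⟨u, v, h1, h2, hu, hv⟩ := split_left hr g hg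
  exact ⟨v, u, h1.trans h2.eq, h2.symm, hv, hu⟩

theorem kPi_prime_le_pow [Finite G] {r : ℕ} (hr : r.Prime) :
    kPi ({r} : Set ℕ) G ≤ r ^ (Nat.card G).factorization r := by
  haveI := Fact.mk hr
  obtain ⟨P⟩ : Nonempty (Sylow r G) := inferInstance
  exact (kPi_prime_le_card P).trans P.card_eq_multiplicity.le

/-- Some centraliser of an `r`-element carries many classes. -/
theorem exists_large_centralizer [Finite G] {r p : ℕ} (hr : r.Prime) (hrS : r ∉ S)
    (h : part (insert r S) G < p * kPi ((insert r S : Finset ℕ) : Set ℕ) G) :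
    ∃ u : G, part S G < p * kPi (S : Set ℕ) ↥(Subgroup.centralizer ({u} : Set G)) := by
  by_contra hcon
  push Not at hcon
  have hp : 0 < p := by
    rcases Nat.eq_zero_or_pos p with rfl | h0
    · rw [zero_mul] at h; omega
    · exact h0
  have := kPi_le_mul (G := G) (π := ((insert r S : Finset ℕ) : Set ℕ)) (ρ := (S : Set ℕ)) hr (by simp)
    (part S G / p) fun u => (Nat.le_div_iff_mul_le hp).mpr (by rw [mul_comm]; exact hcon u)
  rw [part_insert hrS] at h
  have h2 := Nat.mul_le_mul (kPi_prime_le_pow (G := G) hr) (Nat.mul_div_le (part S G) p)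
  nlinarith

end CfsgLib.PiClasses
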