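import Mathlib
import Cfsg.Agent.PiClasses.Count
import Cfsg.Agent.Transfer.Focal

/-!
Fusion dichotomy, normal complements, and coprime action counts.
-/

set_option autoImplicit false

namespace CfsgLib.PiClasses

open CfsgLib.ClassesPi
open scoped Pointwise

variable {G : Type*} [Group G] [Finite G]

/-- The conjugation action of a subgroup normalising `U` on `U`. -/
@[reducible] def normAction (A U : Subgroup G) (h : A ≤ Subgroup.normalizer (U : Set G)) : MulAction A U where
  smul a u := ⟨(a : G) * u * (a : G)⁻¹, (Subgroup.mem_normalizer_iff.mp (h a.2) u).mp u.2⟩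
  one_smul u := Subtype.ext (by show ((1 : A) : G) * u * ((1 : A) : G)⁻¹ = u; simp)
  mul_smul a b u := Subtype.ext (by
    show ((a * b : A) : G) * u * ((a * b : A) : G)⁻¹ = (a : G) * ((b : G) * u * (b : G)⁻¹) * (a : G)⁻¹
    simp [mul_assoc])

/-- A moved point of an invariant subgroup has a large fibre. -/
theorem fiber_ge (A U : Subgroup G) (h : A ≤ Subgroup.normalizer (U : Set G)) {q : ℕ}
    (hA : ∀ t : ℕ, t.Prime → t ∣ Nat.card A → q ≤ t) {x : G} (hx : x ∈ U)
    (hnf : x ∉ U ⊓ Subgroup.centralizer (A : Set G)) :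
    q ≤ {y | y ∈ (U : Set G) ∧ ConjClasses.mk y = ConjClasses.mk x}.ncard := by
  letI := normAction A U h
  have hne : (MulAction.stabilizer A (⟨x, hx⟩ : U)).index ≠ 1 := by
    intro h1
    refine hnf ⟨hx, Subgroup.mem_centralizer_iff.mpr fun a ha => ?_⟩
    have hm : (⟨a, ha⟩ : A) ∈ MulAction.stabilizer A (⟨x, hx⟩ : U) := by
      rw [Subgroup.index_eq_one.mp h1]; trivial
    exact mul_inv_eq_iff_eq_mul.mp (congrArg Subtype.val (MulAction.mem_stabilizer_iff.mp hm))
  obtain ⟨t, ht, htd⟩ := Nat.exists_prime_and_dvd hne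
  refine (hA t ht (htd.trans (Subgroup.index_dvd_card _))).trans ?_
  refine (Nat.le_of_dvd (Nat.pos_of_ne_zero Subgroup.index_ne_zero_of_finite) htd).trans ?_
  rw [MulAction.index_stabilizer, ← Set.ncard_image_of_injective _ Subtype.val_injective]
  refine Set.ncard_le_ncard ?_ (Set.toFinite _)
  rintro _ ⟨_, ⟨a, rfl⟩, rfl⟩
  exact ⟨(a • (⟨x, hx⟩ : U)).2,
    ConjClasses.mk_eq_mk_iff_isConj.mpr (isConj_iff.mpr ⟨(a : G), rfl⟩).symm⟩

/-- Fixed points of a coprime action of an `s`-group. -/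
theorem modEq_fixed (A U : Subgroup G) (h : A ≤ Subgroup.normalizer (U : Set G)) {s : ℕ} [Fact s.Prime]
    (hA : IsPGroup s A) :
    Nat.card U ≡ Nat.card ↥(U ⊓ Subgroup.centralizer (A : Set G)) [MOD s] := by
  letI := normAction A U h
  refine (hA.card_modEq_card_fixedPoints U).trans (congrArg (· % s) ?_)
  refine Nat.card_congr
    { toFun := fun u => ⟨u.1.1, u.1.2, Subgroup.mem_centralizer_iff.mpr fun a ha =>
        mul_inv_eq_iff_eq_mul.mp (congrArg Subtype.val (u.2 ⟨a, ha⟩))⟩
      invFun := fun u => ⟨⟨u.1, u.2.1⟩, fun a => Subtype.ext (by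
        show (a : G) * u.1 * (a : G)⁻¹ = u.1
        rw [Subgroup.mem_centralizer_iff.mp u.2.2 a a.2, mul_inv_cancel_right])⟩
      left_inv := fun _ => rfl
      right_inv := fun _ => rfl }

/-- A non-trivial coprime action fixes a small subgroup. -/
theorem succ_mul_fixed_le (A U : Subgroup G) (h : A ≤ Subgroup.normalizer (U : Set G)) {s : ℕ} [Fact s.Prime]
    (hA : IsPGroup s A) (hs : ¬ s ∣ Nat.card U) (hne : ¬ U ≤ Subgroup.centralizer (A : Set G)) :
    (s + 1) * Nat.card ↥(U ⊓ Subgroup.centralizer (A : Set G)) ≤ Nat.card U := by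
  set F := U ⊓ Subgroup.centralizer (A : Set G)
  obtain ⟨t, ht⟩ := Subgroup.card_dvd_of_le (inf_le_left : F ≤ U)
  have hmod := modEq_fixed A U h hA
  rw [ht] at hmod hs ⊢
  rw [mul_comm (s + 1)]
  refine Nat.mul_le_mul_left _ ?_
  have ht1 : t ≠ 1 := by
    rintro rfl
    refine hne ?_
    have : F = U := Subgroup.eq_of_le_of_card_ge inf_le_left (by rw [ht, mul_one])
    rw [← this]
    exact inf_le_right
  have ht0 : t ≠ 0 := by rintro rfl; rw [mul_zero] at hs; exact hs (dvd_zero s)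
  have hcop : Nat.Coprime s (Nat.card F) :=
    (Nat.Prime.coprime_iff_not_dvd Fact.out).mpr fun hd => hs (dvd_mul_of_dvd_left hd t)
  have h2 : Nat.card F * t ≡ Nat.card F * 1 [MOD s] := by rw [mul_one]; exact hmod
  have h3 : s ∣ t - 1 := (Nat.modEq_iff_dvd' (by omega)).mp ((Nat.ModEq.cancel_left_of_coprime hcop h2).symm)
  have := Nat.le_of_dvd (by omega) h3
  omega

theorem sylow_conj_into {s : ℕ} [Fact s.Prime] (Q : Sylow s G) {x : G} (hx : IsPiElt ({s} : Set ℕ) x) :
    ∃ g : G, g * x * g⁻¹ ∈ (Q : Subgroup G) := by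
  obtain ⟨k, hk⟩ := (isPiElt_singleton_iff Fact.out x).1 hx
  obtain ⟨T, hT⟩ := (IsPGroup.of_card (n := k) (by rw [Nat.card_zpowers, hk]) :
    IsPGroup s (Subgroup.zpowers x)).exists_le_sylow
  obtain ⟨g, hg⟩ := MulAction.exists_smul_eq G T Q
  refine ⟨g, ?_⟩
  rw [← hg]
  exact Subgroup.smul_mem_pointwise_smul x (MulAut.conj g) _ (hT (Subgroup.mem_zpowers x))

/-- Fusion in an abelian Sylow subgroup loses many classes. -/
theorem fusion_or {s : ℕ} [Fact s.Prime] (Q : Sylow s G) (hQ : IsMulCommutative (Q : Subgroup G)) :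
    Subgroup.normalizer ((Q : Subgroup G) : Set G) ≤ Subgroup.centralizer ((Q : Subgroup G) : Set G) ∨
      2 * s * kPi ({s} : Set ℕ) G ≤ (s + 1) * Nat.card (Q : Subgroup G) := by
  by_cases h : Subgroup.normalizer ((Q : Subgroup G) : Set G) ≤ Subgroup.centralizer ((Q : Subgroup G) : Set G)
  · exact Or.inl h
  refine Or.inr ?_
  obtain ⟨n, hn, hnc⟩ := SetLike.not_le_iff_exists.mp h
  set U₀ := (Q : Subgroup G) ⊓ Subgroup.centralizer ({n} : Set G)
  have hU₀ : s * Nat.card U₀ ≤ Nat.card (Q : Subgroup G) := by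
    obtain ⟨t, ht⟩ := Subgroup.card_dvd_of_le (inf_le_left : U₀ ≤ (Q : Subgroup G))
    obtain ⟨j, hj⟩ := IsPGroup.iff_card.mp Q.isPGroup'
    obtain ⟨i, -, rfl⟩ := (Nat.dvd_prime_pow Fact.out).mp (hj ▸ Dvd.intro_left _ ht.symm : t ∣ s ^ j)
    rw [ht, mul_comm s]
    refine Nat.mul_le_mul_left _ (Nat.le_self_pow ?_ s)
    rintro rfl
    refine hnc ?_
    rw [pow_zero, mul_one] at ht
    have he : U₀ = (Q : Subgroup G) := Subgroup.eq_of_le_of_card_ge inf_le_left (le_of_eq ht)
    rw [Subgroup.mem_centralizer_iff]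
    intro x hx
    have := (he.symm ▸ hx : x ∈ U₀).2
    exact Subgroup.mem_centralizer_singleton_iff.mp this
  have hk : kPi ({s} : Set ℕ) G ≤ (ConjClasses.mk '' ((Q : Subgroup G) : Set G)).ncard :=
    kPi_le_ncard_image fun x hx => sylow_conj_into Q hx
  have h2 := mul_ncard_image_le ConjClasses.mk ((Q : Subgroup G) : Set G) (U₀ : Set G)
    (fun x hx => hx.1) (q := 2) fun x hx hx₀ => by
      refine le_trans ?_ (Set.ncard_le_ncard (s := {x, n * x * n⁻¹}) ?_ (Set.toFinite _))
      · rw [Set.ncard_pair]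
        intro e
        exact hx₀ ⟨hx, Subgroup.mem_centralizer_singleton_iff.mpr (eq_mul_inv_iff_mul_eq.mp e)⟩
      · rintro y (rfl | rfl)
        · exact ⟨hx, rfl⟩
        · exact ⟨(Subgroup.mem_normalizer_iff.mp hn x).mp hx,
            (ConjClasses.mk_eq_mk_iff_isConj.mpr (isConj_iff.mpr ⟨n, rfl⟩)).symm⟩
  rw [← Nat.card_coe_set_eq ((Q : Subgroup G) : Set G), ← Nat.card_coe_set_eq (U₀ : Set G)] at h2
  change _ ≤ Nat.card (Q : Subgroup G) + (2 - 1) * Nat.card U₀ at h2
  nlinarith [hk, h2, hU₀]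

/-- Elements of order coprime to the index of a normal subgroup lie in it. -/
theorem mem_of_coprime_index (K : Subgroup G) [K.Normal] {x : G} (hx : (orderOf x).Coprime K.index) : x ∈ K := by
  rw [← QuotientGroup.eq_one_iff, ← orderOf_eq_one_iff]
  exact Nat.eq_one_of_dvd_coprimes hx (orderOf_map_dvd (QuotientGroup.mk' K) x) (orderOf_dvd_natCard _)

/-- Normal complement for a set of primes without fusion. -/
theorem exists_normal_complement {S : Finset ℕ} (hS : ∀ q ∈ S, q.Prime)
    (h : ∀ (s : ℕ) (_ : Fact s.Prime), s ∈ S → ∀ Q : Sylow s G,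
      Subgroup.normalizer ((Q : Subgroup G) : Set G) ≤ Subgroup.centralizer ((Q : Subgroup G) : Set G)) :
    ∃ K : Subgroup G, K.Normal ∧ K.index = part S G ∧ ∀ q ∈ S, ¬ q ∣ Nat.card K := by
  suffices hkey : ∃ K : Subgroup G, K.Normal ∧ K.index = part S G by
    obtain ⟨K, hK, hidx⟩ := hkey
    refine ⟨K, hK, hidx, fun q hq hd => ?_⟩
    have hdiv : q ^ (Nat.card G).factorization q ∣ K.index :=
      hidx ▸ Finset.dvd_prod_of_mem (fun r => r ^ (Nat.card G).factorization r) hq
    have := Nat.mul_dvd_mul hd hdiv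
    rw [← pow_succ', K.card_mul_index] at this
    exact Nat.pow_succ_factorization_not_dvd Nat.card_pos.ne' (hS q hq) this
  induction S using Finset.induction_on with
  | empty => exact ⟨⊤, inferInstance, by rw [Subgroup.index_top]; simp [part]⟩
  | @insert a S ha ih =>
    obtain ⟨K, hK, hKi⟩ := ih (fun q hq => hS q (Finset.mem_insert_of_mem hq))
      fun s hs hmem => h s hs (Finset.mem_insert_of_mem hmem)
    haveI := Fact.mk (hS a (Finset.mem_insert_self a S))
    obtain ⟨P⟩ : Nonempty (Sylow a G) := inferInstance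
    set M := (MonoidHom.transferSylow P (h a inferInstance (Finset.mem_insert_self a S) P)).ker
    have hMi : M.index = a ^ (Nat.card G).factorization a := by
      rw [(MonoidHom.ker_transferSylow_isComplement' P _).symm.index_eq_card]
      exact P.card_eq_multiplicity
    haveI := hK
    refine ⟨K ⊓ M, inferInstance, ?_⟩
    rw [part_insert ha]
    have hcop : Nat.Coprime (a ^ (Nat.card G).factorization a) (part S G) :=
      Nat.Coprime.prod_right fun q hq => Nat.Coprime.pow _ _
        ((Nat.coprime_primes (hS a (Finset.mem_insert_self a S)) (hS q (Finset.mem_insert_of_mem hq))).mpr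
          fun e => ha (e ▸ hq))
    refine Nat.dvd_antisymm ?_ ?_
    · rw [← hKi, ← hMi, mul_comm, ← Subgroup.relIndex_mul_index (inf_le_right : K ⊓ M ≤ M)]
      rw [Subgroup.inf_relIndex_right]
      exact Nat.mul_dvd_mul_right (Subgroup.relIndex_dvd_index_of_normal K M) _
    · refine hcop.mul_dvd_of_dvd_of_dvd ?_ ?_
      · exact hMi ▸ Subgroup.index_dvd_of_le inf_le_right
      · exact hKi ▸ Subgroup.index_dvd_of_le inf_le_left

end CfsgLib.PiClasses
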