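import Cfsg.Agent.CharBasics.Central
import Cfsg.Agent.CharBasics.Ortho
import Mathlib

/-!
A `p`-group with many conjugacy classes has small derived subgroup.
-/

set_option autoImplicit false

namespace CfsgLib.PiClasses

open Cfsg CfsgLib.CharBasics

variable {P : Type*} [Group P] [Finite P]

omit [Finite P] in
theorem apply_mul_of_degree_one {χ : P → ℂ} (h : IsCharacter P χ)
    (h1 : charDegree χ = 1) (a b : P) : χ (a * b) = χ a * χ b := by
  have h1' := apply_one h
  obtain ⟨n, ρ, rfl⟩ := h
  rw [h1, Nat.cast_one, Representation.char_one, Module.finrank_fin_fun, Nat.cast_eq_one] at h1'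
  subst h1'
  simp only [Representation.character, map_mul, Module.End.mul_eq_comp,
    LinearMap.trace_eq_matrix_trace ℂ (Pi.basisFun ℂ (Fin 1)), LinearMap.toMatrix_comp _ (Pi.basisFun ℂ (Fin 1)),
    Matrix.trace_fin_one, Matrix.mul_apply, Fin.sum_univ_one]

/-- There are at most `[P : P']` irreducible characters of degree one. -/
theorem card_linear_le_index :
    Nat.card {χ : IrrCharacter P // charDegree (χ : P → ℂ) = 1} ≤ (commutator P).index := by
  classical
  haveI : Finite (P →* ℂˣ) :=
    Finite.of_equiv (Abelianization P →* ℂˣ) (Abelianization.lift (G := P) (A := ℂˣ)).symm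
  let toHom : {χ : IrrCharacter P // charDegree (χ : P → ℂ) = 1} → (P →* ℂˣ) := fun χ =>
    ({ toFun := (χ.1 : P → ℂ)
       map_one' := by rw [apply_one (isCharacter_of_irr χ.1.2), χ.2, Nat.cast_one]
       map_mul' := apply_mul_of_degree_one (isCharacter_of_irr χ.1.2) χ.2 } : P →* ℂ).toHomUnits
  refine (Nat.card_le_card_of_injective toHom fun χ ψ h => ?_).trans (le_of_eq ?_)
  · refine Subtype.ext (Subtype.ext (funext fun g => ?_))
    exact congrArg Units.val (DFunLike.congr_fun h g)
  · rw [Nat.card_congr (Abelianization.lift (G := P) (A := ℂˣ)),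
      CommGroup.card_monoidHom_of_hasEnoughRootsOfUnity (Abelianization P) ℂ]
    rfl

/-- A `p`-group with more than `|P| / p` classes has derived subgroup of order at most `p`. -/
theorem card_commutator_le {p : ℕ} (hp : p.Prime) (hP : IsPGroup p P)
    (h : Nat.card P < p * Nat.card (ConjClasses P)) : Nat.card (commutator P) ≤ p := by
  classical
  haveI := Fintype.ofFinite P
  haveI := Fact.mk hp
  haveI := finite_irrCharacter (G := P)
  haveI := Fintype.ofFinite (IrrCharacter P)
  set l := Nat.card {χ : IrrCharacter P // charDegree (χ : P → ℂ) = 1}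
  by_contra hcon
  push Not at hcon
  have hC : p ^ 2 ≤ Nat.card (commutator P) := by
    obtain ⟨n, hn⟩ := IsPGroup.iff_card.mp (hP.to_subgroup (commutator P))
    rw [hn] at hcon ⊢
    refine Nat.pow_le_pow_right hp.pos ?_
    by_contra hlt
    exact absurd hcon (not_lt.mpr (le_of_le_of_eq (Nat.pow_le_pow_right hp.pos (by omega : n ≤ 1)) (pow_one p)))
  have hidx : p ^ 2 * l ≤ Nat.card P := by
    rw [← (commutator P).card_mul_index]
    exact Nat.mul_le_mul hC card_linear_le_index
  have hsum : p ^ 2 * Nat.card (ConjClasses P) ≤ Nat.card P + (p ^ 2 - 1) * l := by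
    rw [← card_irr, Nat.card_eq_fintype_card (α := IrrCharacter P), ← sum_sq_degree (G := P)]
    have hl : l = (Finset.univ.filter fun χ : IrrCharacter P => charDegree (χ : P → ℂ) = 1).card := by
      rw [← Fintype.card_subtype, ← Nat.card_eq_fintype_card]
    rw [hl, Finset.card_filter, Finset.mul_sum, ← Finset.card_univ, Finset.card_eq_sum_ones, Finset.mul_sum,
      ← Finset.sum_add_distrib]
    refine Finset.sum_le_sum fun χ _ => ?_
    by_cases h1 : charDegree (χ : P → ℂ) = 1
    · rw [if_pos h1, h1, mul_one, mul_one]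
      have := Nat.one_le_pow 2 p hp.pos
      omega
    · rw [if_neg h1, mul_one, mul_zero, add_zero]
      obtain ⟨n, hn⟩ := IsPGroup.iff_card.mp hP
      obtain ⟨i, -, hi⟩ := (Nat.dvd_prime_pow hp).mp (hn ▸ degree_dvd χ)
      refine Nat.pow_le_pow_left ?_ 2
      rw [hi]
      refine Nat.le_self_pow ?_ p
      rintro rfl
      exact h1 (by rw [hi, pow_zero])
  have h2 := hp.two_le
  obtain ⟨a, ha⟩ : ∃ a, p ^ 2 = a + 1 := ⟨p ^ 2 - 1, by have := Nat.one_le_pow 2 p hp.pos; omega⟩
  rw [ha] at hidx hsum
  simp only [Nat.add_sub_cancel] at hsum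
  nlinarith [h, hsum, hidx, Nat.mul_le_mul_left a hidx, Nat.mul_le_mul_left (a + 1) hsum,
    Nat.zero_le l, mul_le_mul' (le_refl (Nat.card (ConjClasses P))) h2]

end CfsgLib.PiClasses
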